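import Cfsg.Agent.H745.Q.CenFin
import Cfsg.Agent.H780.QTrans
import Cfsg.Agent.H752.PPow
set_option linter.all false

/-! # S5176, section 5.3: generation of `F` -/
set_option autoImplicit false

namespace Cfsg.Agent.H784.Q
open Cfsg Cfsg.FusionSystem Cfsg.Agent.H752 Cfsg.Agent.H784.SF

universe u

variable {Ω : Type u} [Group Ω] {S : Subgroup Ω} [Finite S] {F : FusionSystem S} {R : Subgroup Ω} {a b z r : Ω} {m : ℕ}
  {t c d k w : Ω} {β : Ω → Ω}

/-- **5.3**: `F` is generated by conjugations, the two automorphisms of order three fixing `z`, and `β`. -/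
theorem CaseA8.generated (h : CaseA8 F R a b z r m t c d k w β) (X : Subgroup Ω → (Ω → Ω) → Prop)
    (hcongr : ∀ P f g, X P f → (∀ x ∈ P, g x = f x) → X P g) (hres : ∀ P Q f, X P f → Q ≤ P → X Q f)
    (hcomp : ∀ P Q f g, X P f → X Q g → (∀ x ∈ P, f x ∈ Q) → X P (fun x => g (f x)))
    (hinv : ∀ (P Q : Subgroup Ω) (f g : Ω → Ω), X P f → (∀ y ∈ Q, ∃ x ∈ P, f x = y ∧ g y = x) → X Q g)
    (hconj : ∀ s ∈ S, X S (fun x => s * x * s⁻¹))
    (hτ : ∀ τ : Ω → Ω, Mp F (Subgroup.closure {r, b} ⊔ centralizerIn S R) τ → τ r = b → τ b = r * b →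
      (∀ x ∈ centralizerIn S R, τ x = x) → X (Subgroup.closure {r, b} ⊔ centralizerIn S R) τ)
    (hσ : ∀ σ : Ω → Ω, Mp F (R ⊔ Subgroup.closure {c, w}) σ → σ c = w → σ w = c * w →
      (∀ x ∈ R, σ x = x) → X (R ⊔ Subgroup.closure {c, w}) σ)
    (hβ : X (CS S t) β) :
    ∀ P f, Mp F P f → X P f := by
  have hcen := h.cen_gen X hcongr hres hcomp hinv hconj hτ hσ
  have htrans := h.toCaseA.trans_gen X hres hcomp hcen hβ
  have : Fact (Nat.Prime 2) := ⟨Nat.prime_two⟩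
  refine mp_generation F h.sit.hS h.sit.sat X (fun P f g _ => hcongr P f g) (fun P R f _ => hres P R f)
    (fun P Q f g _ _ => hcomp P Q f g) (fun P R f g _ h1 _ => hinv P R f g h1)
    (fun P hP s hs => hres S P _ (hconj s hs) hP) ?_
  intro Q hQa hQr α hα _ f hf
  have hQS : Q ≤ S := hQr.1
  have hfQ : Finite Q := H802.finite_of_le hQS
  -- extend `α` to `Q C_S(Q)`
  have hαm := (H802.mem_autGroup_iff F hQS α).1 hα
  have hr : (Q.subtype.comp α.toMonoidHom).range = Q :=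
    H802.range_eq_of_mapsTo hαm fun x => (α x).2
  obtain ⟨ψ, hψ, hψe⟩ := hQr.2 Q _ hαm hr
  have h1 : Q ≤ extender S Q (Q.subtype.comp α.toMonoidHom) :=
    H802.le_extender hQS (H802.hom_apply_mem hαm)
  have h2 : centralizerIn S Q ≤ extender S Q (Q.subtype.comp α.toMonoidHom) :=
    H802.centralizerIn_le_extender S Q _
  have hmp : Mp F (Q ⊔ centralizerIn S Q) (ex ψ) := (mp_ex hψ).res (sup_le h1 h2)
  have hQm : ∀ (x : Ω) (hx : x ∈ Q), ex ψ x = ((α ⟨x, hx⟩ : Q) : Ω) := by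
    intro x hx
    rw [ex_apply _ (h1 hx)]
    exact hψe x hx (h1 hx)
  have hCm : ∀ x ∈ centralizerIn S Q, ex ψ x ∈ centralizerIn S Q := by
    intro x hx
    rw [ex_apply _ (h2 hx)]
    exact H802.apply_mem_centralizerIn hψ h1 hr (fun y hy => hψe y hy _) ⟨x, h2 hx⟩ hx.2
  have hm : ∀ x ∈ Q ⊔ centralizerIn S Q, ex ψ x ∈ Q ⊔ centralizerIn S Q := by
    refine hmp.mem_sup (fun x hx => ?_) (fun x hx => ?_)
    · rw [hQm x hx]
      exact (le_sup_left : Q ≤ _) (α _).2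
    · exact (le_sup_right : centralizerIn S Q ≤ _) (hCm x hx)
  -- it is enough to treat the extension
  suffices hsuf : X (Q ⊔ centralizerIn S Q) (ex ψ) by
    exact hcongr _ _ _ (hres _ _ _ hsuf le_sup_left) fun x hx => by rw [hf x hx, hQm x hx]
  set P := Q ⊔ centralizerIn S Q with hPdef
  set g := ex ψ with hgdef
  have hfP : Finite P := H802.finite_of_le hmp.le
  have hzP : z ∈ P := by
    have h3 : z ∈ centralizerIn S Q := mem_K.mpr ⟨h.sit.zS, fun y hy => (h.sit.z_centr y (hQS hy)).symm⟩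
    exact (le_sup_right : centralizerIn S Q ≤ _) h3
  by_cases hgz : g z = z
  · exact hcen P g hmp hzP hgz
  · -- `t₁ = g z`
    have hce : CE F z (g z) := CE.of_mp hmp hzP
    obtain ⟨φ, hφ, hφX, hφz⟩ := htrans (g z) hce hgz
    have hPC : P ≤ CS S (g z) := by
      intro y hy
      obtain ⟨x, hx, rfl⟩ := hmp.surj hm hy
      refine mem_CS.mpr ⟨hmp.mem hx, ?_⟩
      rw [← hmp.mul hx hzP, ← hmp.mul hzP hx, h.sit.z_centr x (hmp.le hx)]
    have hφg : Mp F P (fun x => φ (g x)) := hmp.comp hφ fun x hx => hPC (hm x hx)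
    have h3 : X P (fun x => φ (g x)) := hcen P _ hφg hzP hφz
    -- the inverse of `φ` on `φ(P)`
    obtain ⟨T, hT, hTS, hTc⟩ := hφ.exists_image hPC
    obtain ⟨φ', hφ', h4, h5⟩ := hφ.exists_symm hPC hT
    have h6 : X T φ' := hinv (CS S (g z)) T φ φ' hφX fun y hy => ⟨φ' y, hPC (h5 y hy).1, (h5 y hy).2, rfl⟩
    refine hcongr P _ _ (hcomp P T _ _ h3 h6 fun x hx => (hT _).2 ⟨g x, hm x hx, rfl⟩) fun x hx => ?_
    exact (h4 _ (hm x hx)).symm

/-- **5.3** -/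
theorem NF.generated (h : NF F R a b z r m t c d k w β) (X : Subgroup Ω → (Ω → Ω) → Prop)
    (hcongr : ∀ P f g, X P f → (∀ x ∈ P, g x = f x) → X P g) (hres : ∀ P Q f, X P f → Q ≤ P → X Q f)
    (hcomp : ∀ P Q f g, X P f → X Q g → (∀ x ∈ P, f x ∈ Q) → X P (fun x => g (f x)))
    (hinv : ∀ (P Q : Subgroup Ω) (f g : Ω → Ω), X P f → (∀ y ∈ Q, ∃ x ∈ P, f x = y ∧ g y = x) → X Q g)
    (hconj : ∀ s ∈ S, X S (fun x => s * x * s⁻¹))
    (hτ : ∀ τ : Ω → Ω, Mp F (Subgroup.closure {r, b} ⊔ centralizerIn S R) τ → τ r = b → τ b = r * b →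
      (∀ x ∈ centralizerIn S R, τ x = x) → X (Subgroup.closure {r, b} ⊔ centralizerIn S R) τ)
    (hσ : ∀ σ : Ω → Ω, Mp F (R ⊔ Subgroup.closure {c, w}) σ → σ c = w → σ w = c * w →
      (∀ x ∈ R, σ x = x) → X (R ⊔ Subgroup.closure {c, w}) σ)
    (hβ : X (CS S t) β) :
    ∀ P f, Mp F P f → X P f :=
  h.toCaseA8.generated X hcongr hres hcomp hinv hconj hτ hσ hβ

end Cfsg.Agent.H784.Q
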