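import Cfsg.Agent.H764.Q.Gen
import Cfsg.Agent.H764.Q.Graph
import Cfsg.Agent.H745.Q.TauFin
import Cfsg.Agent.H796.Q.Iso
import Cfsg.Agent.H757.Sf.Five
import Cfsg.Agent.H766.QW.NfMain
set_option linter.all false

/-! # S5176, section 5.5: uniqueness -/
set_option autoImplicit false

namespace Cfsg.Agent.H764.Q
open Cfsg Cfsg.FusionSystem Cfsg.Agent.H752 Cfsg.Agent.H784.SF Cfsg.Agent.H784.Q

universe u v

variable {Ω : Type u} [Group Ω] {Ω' : Type v} [Group Ω'] {S : Subgroup Ω} {S' : Subgroup Ω'}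
  {F : FusionSystem S} {F' : FusionSystem S'} {H : Subgroup (Ω × Ω')}

/-- Two maps which agree (through `H`) on generators. -/
theorem Tr.ofGen (gr : Gr S S' H) {E : Subgroup Ω} {E' : Subgroup Ω'} {f : Ω → Ω} {f' : Ω' → Ω'} (h : Mp F E f)
    (h' : Mp F' E' f') (G : Set Ω) (hG : ∀ K : Subgroup Ω, G ⊆ K → E ≤ K)
    (hg : ∀ x ∈ G, x ∈ E ∧ ∃ y ∈ E', (x, y) ∈ H ∧ (f x, f' y) ∈ H) : Tr F' H E f := by
  set L : Subgroup Ω :=
    { carrier := {x | x ∈ E ∧ ∃ y ∈ E', (x, y) ∈ H ∧ (f x, f' y) ∈ H}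
      mul_mem' := by
        rintro x x' ⟨hx, y, hy, h1, h2⟩ ⟨hx', y', hy', h1', h2'⟩
        refine ⟨mul_mem hx hx', y * y', mul_mem hy hy', mul_mem h1 h1', ?_⟩
        rw [h.mul hx hx', h'.mul hy hy']
        exact mul_mem h2 h2'
      one_mem' := ⟨one_mem _, 1, one_mem _, one_mem _, by rw [h.one, h'.one]; exact one_mem H⟩
      inv_mem' := by
        rintro x ⟨hx, y, hy, h1, h2⟩
        refine ⟨inv_mem hx, y⁻¹, inv_mem hy, inv_mem h1, ?_⟩
        rw [h.inv hx, h'.inv hy]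
        exact inv_mem h2 } with hL
  have h3 : E ≤ L := hG L fun x hx => hg x hx
  refine ⟨E', f', h', fun x hx y hy => ?_⟩
  obtain ⟨-, y', hy', h4, h5⟩ := h3 hx
  have h6 := gr.uniq h4 hy
  subst h6
  exact ⟨hy', h5⟩

variable {R : Subgroup Ω} {a b z r : Ω} {m : ℕ} {t c d k w : Ω} {β : Ω → Ω}
  {R' : Subgroup Ω'} {a' b' z' r' : Ω'} {t' c' d' k' w' : Ω'} {β' : Ω' → Ω'}

theorem tr_all [Finite S] [Finite S'] (gr : Gr S S' H) (h : NF F R a b z r m t c d k w β)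
    (h' : NF F' R' a' b' z' r' m t' c' d' k' w' β') (ha : (a, a') ∈ H) (hb : (b, b') ∈ H) (hd : (d, d') ∈ H)
    (hw : (w, w') ∈ H) (P : Subgroup Ω) (f : Ω → Ω) (hf : Mp F P f) : Tr F' H P f := by
  have hr : (r, r') ∈ H := by
    rw [h.sit.qr.hr, h'.sit.qr.hr]
    exact pow_mem ha _
  have hz : (z, z') ∈ H := by
    rw [h.sit.qr.hz, h'.sit.qr.hz]
    exact pow_mem ha _
  have hk : (k, k') ∈ H := by
    rw [h.hk, h'.hk]
    exact mul_mem (mul_mem hd hd) (inv_mem ha)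
  have hc : (c, c') ∈ H := by
    rw [h.toCaseA8.c_eq, h'.toCaseA8.c_eq]
    exact pow_mem hk _
  -- `R`
  have hR : ∀ x ∈ R, ∃ y ∈ R', (x, y) ∈ H := by
    intro x hx
    obtain ⟨i, hi | hi⟩ := h.sit.qr.gen x hx
    · exact ⟨a' ^ i, pow_mem h'.sit.qr.aR _, by rw [hi]; exact pow_mem ha _⟩
    · exact ⟨b' * a' ^ i, mul_mem h'.sit.qr.bR (pow_mem h'.sit.qr.aR _), by rw [hi]; exact mul_mem hb (pow_mem ha _)⟩
  -- `K`
  have hK : ∀ x ∈ centralizerIn S R, ∃ y ∈ centralizerIn S' R', (x, y) ∈ H := by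
    intro x hx
    obtain ⟨i, hi | hi⟩ := h.Kgen x hx
    · exact ⟨k' ^ i, pow_mem h'.kK _, by rw [hi]; exact pow_mem hk _⟩
    · exact ⟨w' * k' ^ i, mul_mem h'.wK (pow_mem h'.kK _), by rw [hi]; exact mul_mem hw (pow_mem hk _)⟩
  have key := h.generated (fun P f => P ≤ S ∧ (∀ x ∈ P, f x ∈ S) ∧ Tr F' H P f)
    (fun P f g hf he => ⟨hf.1, fun x hx => by rw [he x hx]; exact hf.2.1 x hx, hf.2.2.congr he⟩)
    (fun P Q f hf hQ => ⟨hQ.trans hf.1, fun x hx => hf.2.1 x (hQ hx), hf.2.2.res hQ⟩)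
    (fun P Q f g hf hg hm => ⟨hf.1, fun x hx => hg.2.1 _ (hm x hx), hf.2.2.comp gr hf.1 hg.2.2 hm⟩)
    (fun P Q f g hf hm => ⟨fun y hy => by
        obtain ⟨x, hx, h1, -⟩ := hm y hy
        rw [← h1]
        exact hf.2.1 x hx, fun y hy => by
        obtain ⟨x, hx, -, h1⟩ := hm y hy
        show g y ∈ S
        rw [h1]
        exact hf.1 hx, hf.2.2.symm gr hf.1 hm⟩)
    (fun s hs => ⟨le_rfl, fun x hx => mul_mem (mul_mem hs hx) (inv_mem hs), Tr.conj gr hs⟩)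
    ?_ ?_ ?_
  · exact (key P f hf).2.2
  · intro τ hτ h1 h2 h3
    obtain ⟨τ', hτ', h1', h2', h3'⟩ := h'.exists_tau
    refine ⟨hτ.le, fun x hx => hτ.mem hx, Tr.ofGen gr hτ hτ' ({r, b} ∪ (centralizerIn S R : Set Ω)) (fun K hK => ?_) ?_⟩
    · refine sup_le ((Subgroup.closure_le K).mpr fun x hx => hK (Or.inl hx)) fun x hx => hK (Or.inr hx)
    · have hr' : r' ∈ Subgroup.closure {r', b'} ⊔ centralizerIn S' R' :=
        Subgroup.mem_sup_left (Subgroup.subset_closure (by simp))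
      have hb' : b' ∈ Subgroup.closure {r', b'} ⊔ centralizerIn S' R' :=
        Subgroup.mem_sup_left (Subgroup.subset_closure (by simp))
      rintro x ((hx | hx) | hx)
      · rw [hx]
        exact ⟨Subgroup.mem_sup_left (Subgroup.subset_closure (by simp)), r', hr', hr, by rw [h1, h1']; exact hb⟩
      · rw [Set.mem_singleton_iff] at hx
        rw [hx]
        exact ⟨Subgroup.mem_sup_left (Subgroup.subset_closure (by simp)), b', hb', hb, by
          rw [h2, h2']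
          exact mul_mem hr hb⟩
      · obtain ⟨y, hy, h4⟩ := hK x hx
        exact ⟨Subgroup.mem_sup_right hx, y, Subgroup.mem_sup_right hy, h4, by rw [h3 x hx, h3' y hy]; exact h4⟩
  · intro σ hσ h1 h2 h3
    obtain ⟨σ', hσ', h1', h2', h3'⟩ := h'.exists_sigma
    refine ⟨hσ.le, fun x hx => hσ.mem hx, Tr.ofGen gr hσ hσ' ({c, w} ∪ (R : Set Ω)) (fun K hK => ?_) ?_⟩
    · refine sup_le (fun x hx => hK (Or.inr hx)) ((Subgroup.closure_le K).mpr fun x hx => hK (Or.inl hx))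
    · have hc' : c' ∈ R' ⊔ Subgroup.closure {c', w'} :=
        Subgroup.mem_sup_right (Subgroup.subset_closure (by simp))
      have hw' : w' ∈ R' ⊔ Subgroup.closure {c', w'} :=
        Subgroup.mem_sup_right (Subgroup.subset_closure (by simp))
      rintro x ((hx | hx) | hx)
      · rw [hx]
        exact ⟨Subgroup.mem_sup_right (Subgroup.subset_closure (by simp)), c', hc', hc, by rw [h1, h1']; exact hw⟩
      · rw [Set.mem_singleton_iff] at hx
        rw [hx]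
        exact ⟨Subgroup.mem_sup_right (Subgroup.subset_closure (by simp)), w', hw', hw, by
          rw [h2, h2']
          exact mul_mem hc hw⟩
      · obtain ⟨y, hy, h4⟩ := hR x hx
        exact ⟨Subgroup.mem_sup_left hx, y, Subgroup.mem_sup_left hy, h4, by rw [h3 x hx, h3' y hy]; exact h4⟩
  · have haC : a ∈ CS S t := (h.toCaseA8.CSt a).mpr (Or.inl (Subgroup.mem_sup_left (Subgroup.mem_zpowers a)))
    have hdC : d ∈ CS S t := h.dC
    have hiC : b * w ∈ CS S t := h.toCaseA8.bwt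
    have haC' : a' ∈ CS S' t' := (h'.toCaseA8.CSt a').mpr (Or.inl (Subgroup.mem_sup_left (Subgroup.mem_zpowers a')))
    have hdC' : d' ∈ CS S' t' := h'.dC
    have hiC' : b' * w' ∈ CS S' t' := h'.toCaseA8.bwt
    refine ⟨h.v.mp.le, fun x hx => h.v.mp.mem hx, Tr.ofGen gr h.v.mp h'.v.mp {a, d, b * w} (fun K hK => ?_) ?_⟩
    · have hM : Subgroup.zpowers a ⊔ Subgroup.zpowers d ≤ K :=
        sup_le (Subgroup.zpowers_le.mpr (hK (by simp))) (Subgroup.zpowers_le.mpr (hK (by simp)))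
      intro x hx
      obtain h4 | ⟨y, hy, rfl⟩ := (h.toCaseA8.CSt x).mp hx
      · exact hM h4
      · exact mul_mem (hM hy) (hK (by simp))
    · rintro x (hx | hx | hx)
      · rw [hx]
        exact ⟨haC, a', haC', ha, by rw [h.βa', h'.βa']; exact inv_mem hd⟩
      · rw [hx]
        exact ⟨hdC, d', hdC', hd, by rw [h.βd, h'.βd]; exact mul_mem ha (inv_mem hd)⟩
      · rw [Set.mem_singleton_iff] at hx
        rw [hx]
        exact ⟨hiC, b' * w', hiC', mul_mem hb hw, by rw [h.βi, h'.βi]; exact mul_mem hb hw⟩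

end Cfsg.Agent.H764.Q

namespace Cfsg.Agent.H784.Q
open Cfsg Cfsg.FusionSystem Cfsg.Agent.H752 Cfsg.Agent.H784.SF Cfsg.Agent.H764.Q

universe u v

variable {Ω : Type u} [Group Ω] {S : Subgroup Ω} [Finite S] {F : FusionSystem S} {R : Subgroup Ω} {a b z r : Ω} {m : ℕ}
  {t c d k w : Ω} {β : Ω → Ω}
variable {Ω' : Type v} [Group Ω'] {S' : Subgroup Ω'} [Finite S'] {F' : FusionSystem S'} {R' : Subgroup Ω'} {a' b' z' r' : Ω'}
    {t' c' d' k' w' : Ω'} {β' : Ω' → Ω'}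

theorem NF.unique (h : NF F R a b z r m t c d k w β) (h' : NF F' R' a' b' z' r' m t' c' d' k' w' β') :
    ∃ (j : Ω → Ω') (j' : Ω' → Ω), Cfsg.Agent.H285.SF.FIso F F' j j' := by
  obtain ⟨j, j', h1, h2, h3, h4, h5, h6, ha, hb, hd, hw, ha', hb', hd', hw'⟩ := h.toCaseA8.exists_iso h'.toCaseA8
  have hj1 : j 1 = 1 := by
    have := h5 1 (one_mem _) 1 (one_mem _)
    rw [mul_one] at this
    exact (mul_eq_left.mp this.symm)
  set H : Subgroup (Ω × Ω') :=
    { carrier := {p | p.1 ∈ S ∧ p.2 ∈ S' ∧ j p.1 = p.2}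
      mul_mem' := by
        rintro ⟨x, y⟩ ⟨x', y'⟩ ⟨hx, hy, hxy⟩ ⟨hx', hy', hxy'⟩
        exact ⟨mul_mem hx hx', mul_mem hy hy', by
          show j (x * x') = y * y'
          rw [h5 x hx x' hx', hxy, hxy']⟩
      one_mem' := ⟨one_mem _, one_mem _, hj1⟩
      inv_mem' := by
        rintro ⟨x, y⟩ ⟨hx, hy, hxy⟩
        refine ⟨inv_mem hx, inv_mem hy, ?_⟩
        show j x⁻¹ = y⁻¹
        have h7 := h5 x hx x⁻¹ (inv_mem hx)
        rw [mul_inv_cancel, hj1] at h7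
        have h8 : j x = y := hxy
        rw [h8] at h7
        exact eq_inv_of_mul_eq_one_right h7.symm } with hH
  have hmem : ∀ x y, (x, y) ∈ H ↔ x ∈ S ∧ y ∈ S' ∧ j x = y := fun x y => Iff.rfl
  have gr : Gr S S' H := by
    refine ⟨fun x y hxy => ⟨hxy.1, hxy.2.1⟩, fun x hx => ⟨j x, hx, h1 x hx, rfl⟩, fun y hy => ⟨j' y, h2 y hy, hy, h4 y hy⟩, fun y hy => ?_,
      fun x hx => ?_⟩
    · rw [← hj1]
      exact hy.2.2.symm
    · have h7 := h3 x hx.1
      have h8 : j x = 1 := hx.2.2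
      have h9 := h3 1 (one_mem _)
      rw [hj1] at h9
      rw [h8, h9] at h7
      exact h7.symm
  -- the transposed graph
  set H' : Subgroup (Ω' × Ω) := H.map (MulEquiv.prodComm : Ω × Ω' ≃* Ω' × Ω).toMonoidHom with hH'
  have hsw : ∀ x y, (y, x) ∈ H' ↔ (x, y) ∈ H := by
    intro x y
    rw [hH', Subgroup.mem_map]
    constructor
    · rintro ⟨⟨x', y'⟩, h, h3⟩
      have h4 : (y', x') = (y, x) := h3
      rw [Prod.mk.injEq] at h4
      rw [← h4.1, ← h4.2]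
      exact h
    · intro h
      exact ⟨(x, y), h, rfl⟩
  have gr' : Gr S' S H' := by
    refine ⟨fun x y hxy => ?_, fun y hy => ?_, fun x hx => ?_, fun x hx => ?_, fun y hy => ?_⟩
    · exact (gr.memS _ _ ((hsw _ _).mp hxy)).symm
    · obtain ⟨x, hx⟩ := gr.tot' y hy
      exact ⟨x, (hsw _ _).mpr hx⟩
    · obtain ⟨y, hy⟩ := gr.tot x hx
      exact ⟨y, (hsw _ _).mpr hy⟩
    · exact gr.inj' _ ((hsw _ _).mp hx)
    · exact gr.inj _ ((hsw _ _).mp hy)
  have hS : ∀ x ∈ S, (x, j x) ∈ H := fun x hx => ⟨hx, h1 x hx, rfl⟩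
  have haH : (a, a') ∈ H := by rw [← ha]; exact hS a h.sit.aS
  have hbH : (b, b') ∈ H := by rw [← hb]; exact hS b h.sit.bS
  have hdH : (d, d') ∈ H := by rw [← hd]; exact hS d h.dC.1
  have hwH : (w, w') ∈ H := by rw [← hw]; exact hS w h.wK.1
  obtain ⟨j₁, j₂, hi, -⟩ := gr.fiso (F := F) (F' := F') (fun P f hf => tr_all gr h h' haH hbH hdH hwH P f hf)
    (fun P f hf => tr_all gr' h' h ((hsw _ _).mpr haH) ((hsw _ _).mpr hbH) ((hsw _ _).mpr hdH) ((hsw _ _).mpr hwH) P f hf)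
  exact ⟨j₁, j₂, hi⟩

/-- **Case (A8) determines `F`.** -/
theorem CaseA8.unique (h : CaseA8 F R a b z r m t c d k w β) (h' : CaseA8 F' R' a' b' z' r' m t' c' d' k' w' β') :
    ∃ (j : Ω → Ω') (j' : Ω' → Ω), Cfsg.Agent.H285.SF.FIso F F' j j' := by
  obtain ⟨b₁, β₁, h₁⟩ := h.nf
  obtain ⟨b₂, β₂, h₂⟩ := h'.nf
  exact h₁.unique h₂

end Cfsg.Agent.H784.Q
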